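import Mathlib

/-!
# A group with the local structure of the Tits group has no doubly transitive action

Let `G` have 17971200 elements, a subgroup of order 27 and a subgroup of order 25 in each of which all the elements other
than the identity are conjugate in `G`, and an element of order 13 normalised by an element of order 3.  Then `G` has no
faithful doubly transitive action on three or more points: the degree `n` satisfies `n (n - 1) ∣ |G|` and `|G| ∣ n!`, so
`n` is one of 16, 25, 26, 27, 40, 65, and the lemma that is not Burnside's, applied to the two subgroups, excludes them.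
-/

set_option autoImplicit false

namespace Cfsg.Agent.Lib.Lead.TitsTT

open MulAction

section counting

variable {G : Type*} [Group G] (Ω : Type*) [Fintype Ω] [MulAction G Ω]

/-- the number of the fixed points of an element -/
noncomputable def fixN (g : G) : ℕ := (fixedBy Ω g).ncard

theorem fixN_conj (c g : G) : fixN Ω (c * g * c⁻¹) = fixN Ω g := by
  rw [fixN, fixN, ← smul_fixedBy, Set.ncard_smul_set]

theorem fixN_one : fixN Ω (1 : G) = Fintype.card Ω := by
  rw [fixN, fixedBy_one_eq_univ, Set.ncard_univ, Nat.card_eq_fintype_card]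

theorem fixN_le (g : G) : fixN Ω g ≤ Fintype.card Ω := by
  rw [fixN, ← Nat.card_eq_fintype_card, ← Set.ncard_univ]
  exact Set.ncard_le_ncard (Set.subset_univ _) (Set.toFinite _)

/-- an element that fixes all the points acts trivially -/
theorem smul_eq_of_fixN_eq {g : G} (h : fixN Ω g = Fintype.card Ω) (ω : Ω) : g • ω = ω := by
  have h1 : fixedBy Ω g = Set.univ := by
    apply Set.eq_of_subset_of_ncard_le (Set.subset_univ _) _ (Set.toFinite _)
    rw [Set.ncard_univ, Nat.card_eq_fintype_card, ← h, fixN]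
  have : ω ∈ fixedBy Ω g := by rw [h1]; trivial
  exact this

theorem eq_one_of_fixN_eq [FaithfulSMul G Ω] {g : G} (h : fixN Ω g = Fintype.card Ω) : g = 1 := by
  apply FaithfulSMul.eq_of_smul_eq_smul (α := Ω)
  intro ω
  rw [smul_eq_of_fixN_eq Ω h ω, one_smul]

theorem fixN_eq_sum [DecidableEq Ω] (g : G) : fixN Ω g = ∑ ω : Ω, if g • ω = ω then 1 else 0 := by
  classical
  rw [fixN, Finset.sum_boole, Set.ncard_eq_toFinset_card' ]
  congr 1
  ext ω
  simp [mem_fixedBy]

end counting

section subgroup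

variable {G : Type*} [Group G] [Finite G] (Ω : Type*) [Fintype Ω] [MulAction G Ω]

/-- the sum of the numbers of the fixed points of the elements of a subgroup -/
noncomputable def sumFix (R : Subgroup G) : ℕ := ∑ᶠ g : R, fixN Ω (g : G)

theorem sumFix_eq_sum (R : Subgroup G) [Fintype R] : sumFix Ω R = ∑ g : R, fixN Ω (g : G) :=
  finsum_eq_sum_of_fintype _

/-- the double counting: the sum of the numbers of the fixed points is the sum of the orders of the stabilisers -/
theorem sumFix_eq_sum_stab (R : Subgroup G) : sumFix Ω R = ∑ ω : Ω, Nat.card (stabilizer R ω) := by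
  classical
  have : Fintype R := Fintype.ofFinite _
  rw [sumFix_eq_sum]
  have h1 : ∀ g : R, fixN Ω (g : G) = ∑ ω : Ω, if g • ω = ω then 1 else 0 := fun g => fixN_eq_sum Ω (g : G)
  have h2 : ∀ ω : Ω, Nat.card (stabilizer R ω) = ∑ g : R, if g • ω = ω then 1 else 0 := by
    intro ω
    rw [Nat.card_eq_fintype_card, Finset.sum_boole, Fintype.card_subtype]
    rfl
  simp_rw [h1, h2]
  exact Finset.sum_comm

/-- **Burnside's lemma**: the order of the subgroup divides the sum -/
theorem card_dvd_sumFix (R : Subgroup G) : Nat.card R ∣ sumFix Ω R := by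
  classical
  have : Fintype R := Fintype.ofFinite _
  have : Fintype (Quotient (orbitRel R Ω)) := Fintype.ofFinite _
  have h := sum_card_fixedBy_eq_card_orbits_mul_card_group R Ω
  rw [sumFix_eq_sum, Nat.card_eq_fintype_card]
  have h3 : ∀ g : R, Fintype.card (fixedBy Ω g) = fixN Ω (g : G) := by
    intro g
    rw [fixN, ← Nat.card_eq_fintype_card, Nat.card_coe_set_eq]
    rfl
  simp_rw [h3] at h
  rw [h]
  exact Dvd.intro_left _ rfl

/-- the sum, when all the elements other than the identity have the same number of fixed points -/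
theorem sumFix_eq (R : Subgroup G) (f : ℕ) (h : ∀ g ∈ R, g ≠ 1 → fixN Ω g = f) :
    sumFix Ω R = Fintype.card Ω + (Nat.card R - 1) * f := by
  classical
  have : Fintype R := Fintype.ofFinite _
  rw [sumFix_eq_sum, ← Finset.add_sum_erase Finset.univ _ (Finset.mem_univ (1 : R))]
  congr 1
  · exact fixN_one Ω
  · rw [Finset.sum_congr rfl (fun g hg => h g.1 g.2 (fun e => (Finset.ne_of_mem_erase hg) (Subtype.ext e))),
      Finset.sum_const, Finset.card_erase_of_mem (Finset.mem_univ _), Finset.card_univ, Nat.card_eq_fintype_card,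
      smul_eq_mul]

/-- if a subgroup of order `p ^ 2` fixes no point then the sum is at most `p` times the number of the points -/
theorem sumFix_le (R : Subgroup G) (p : ℕ) (hp : p.Prime) (hR : Nat.card R = p ^ 2)
    (hfix : ∀ ω : Ω, ∃ g ∈ R, g • ω ≠ ω) : sumFix Ω R ≤ p * Fintype.card Ω := by
  classical
  rw [sumFix_eq_sum_stab]
  have hle : ∀ ω : Ω, Nat.card (stabilizer R ω) ≤ p := by
    intro ω
    have hdvd : Nat.card (stabilizer R ω) ∣ p ^ 2 := by
      rw [← hR]
      exact Subgroup.card_subgroup_dvd_card _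
    obtain ⟨k, hk, hk2⟩ := (Nat.dvd_prime_pow hp).1 hdvd
    have hk1 : k ≠ 2 := by
      intro h2
      obtain ⟨g, hg, hne⟩ := hfix ω
      apply hne
      have htop : stabilizer R ω = ⊤ := by
        apply Subgroup.eq_top_of_card_eq
        rw [hk2, h2, hR]
      have : (⟨g, hg⟩ : R) ∈ stabilizer R ω := by rw [htop]; trivial
      exact this
    rw [hk2]
    have : k ≤ 1 := by omega
    calc p ^ k ≤ p ^ 1 := Nat.pow_le_pow_right hp.pos this
      _ = p := pow_one p
  calc ∑ ω : Ω, Nat.card (stabilizer R ω) ≤ ∑ _ω : Ω, p := Finset.sum_le_sum fun ω _ => hle ω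
    _ = p * Fintype.card Ω := by rw [Finset.sum_const, Finset.card_univ, smul_eq_mul, mul_comm]

end subgroup

section arithmetic

/-- bounded universal quantifier, written with the recursor for fast kernel evaluation -/
def allBelow (k : ℕ) (f : ℕ → Bool) : Bool := Nat.rec true (fun i ih => cond (f i) ih false) k

theorem allBelow_iff {k : ℕ} {f : ℕ → Bool} : allBelow k f = true ↔ ∀ i < k, f i = true := by
  induction k with
  | zero => exact ⟨fun _ i hi => absurd hi (Nat.not_lt_zero i), fun _ => rfl⟩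
  | succ k ih =>
    show cond (f k) (allBelow k f) false = true ↔ _
    constructor
    · intro h i hi
      cases hk : f k with
      | false => rw [hk] at h; exact absurd h (by simp)
      | true =>
        rw [hk] at h
        rcases Nat.lt_succ_iff_lt_or_eq.1 hi with h1 | h1
        · exact ih.1 h i h1
        · rw [h1]; exact hk
    · intro h
      rw [h k (Nat.lt_succ_self k)]
      exact ih.2 fun i hi => h i (Nat.lt_succ_of_lt hi)

/-- the test of a degree -/
def degOK (n : ℕ) : Bool :=
  Nat.blt n 3 || (!Nat.beq (17971200 % (n * (n - 1))) 0 || (!Nat.beq (n.factorial % 17971200) 0 ||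
    [16, 25, 26, 27, 40, 65].contains n))

theorem chk_deg : allBelow 8777 degOK = true := by decide +kernel

/-- the degrees allowed by the divisibility conditions -/
theorem degree_cases (n : ℕ) (h3 : 3 ≤ n) (h1 : n * (n - 1) ∣ 17971200) (h2 : 17971200 ∣ n.factorial) :
    n = 16 ∨ n = 25 ∨ n = 26 ∨ n = 27 ∨ n = 40 ∨ n = 65 := by
  have hn : n ∣ 8775 * 2048 := dvd_trans (dvd_mul_right n (n - 1)) h1
  have hn1 : n - 1 ∣ 8775 * 2048 := dvd_trans (dvd_mul_left (n - 1) n) h1
  have hlt : n < 8777 := by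
    rcases Nat.even_or_odd n with he | ho
    · have ho' : Odd (n - 1) := by
        obtain ⟨t, ht⟩ := he
        exact ⟨t - 1, by omega⟩
      have hc : Nat.Coprime (n - 1) 2048 := by
        have : Nat.Coprime (n - 1) 2 := Nat.Coprime.symm (Nat.coprime_two_left.2 ho')
        exact Nat.Coprime.pow_right 11 this
      have := Nat.le_of_dvd (by norm_num) (Nat.Coprime.dvd_of_dvd_mul_right hc hn1)
      omega
    · have hc : Nat.Coprime n 2048 := by
        have : Nat.Coprime n 2 := Nat.Coprime.symm (Nat.coprime_two_left.2 ho)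
        exact Nat.Coprime.pow_right 11 this
      have := Nat.le_of_dvd (by norm_num) (Nat.Coprime.dvd_of_dvd_mul_right hc hn)
      omega
  have h := allBelow_iff.1 chk_deg n hlt
  rw [degOK, Bool.or_eq_true, Bool.or_eq_true, Bool.or_eq_true] at h
  rcases h with h | h | h | h
  · exfalso
    have : n < 3 := by simpa [Nat.blt] using h
    omega
  · exfalso
    rw [Bool.not_eq_true', ← Bool.not_eq_true] at h
    apply h
    rw [Nat.mod_eq_zero_of_dvd h1]
    rfl
  · exfalso
    rw [Bool.not_eq_true', ← Bool.not_eq_true] at h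
    apply h
    rw [Nat.mod_eq_zero_of_dvd h2]
    rfl
  · have := List.contains_iff_mem.1 h
    simpa using this

end arithmetic

section main

variable {G : Type*} [Group G] [Finite G] {Ω : Type*} [Fintype Ω] [MulAction G Ω]

theorem card_dvd_factorial [FaithfulSMul G Ω] : Nat.card G ∣ (Fintype.card Ω).factorial := by
  have hinj : Function.Injective (MulAction.toPermHom G Ω) := MulAction.toPerm_injective
  have h1 := Subgroup.card_dvd_of_injective _ hinj
  rw [Nat.card_perm, Nat.card_eq_fintype_card (α := Ω)] at h1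
  exact h1

theorem mul_pred_dvd_card (h2 : IsMultiplyPretransitive G Ω 2) (h3 : 3 ≤ Fintype.card Ω) :
    Fintype.card Ω * (Fintype.card Ω - 1) ∣ Nat.card G := by
  obtain ⟨a, b, hab⟩ := Fintype.one_lt_card_iff.1 (show 1 < Fintype.card Ω by omega)
  have hs : ({a, b} : Set Ω).ncard = 2 := Set.ncard_pair hab
  have h := h2.index_of_fixingSubgroup_mul hs
  rw [Nat.card_eq_fintype_card] at h
  obtain ⟨m, hm⟩ : ∃ m, Fintype.card Ω = m + 2 := ⟨Fintype.card Ω - 2, by omega⟩
  rw [hm] at h ⊢
  rw [Nat.add_sub_cancel, Nat.factorial_succ, Nat.factorial_succ] at h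
  have h4 : (fixingSubgroup G ({a, b} : Set Ω)).index = (m + 2) * (m + 1) := by
    apply Nat.eq_of_mul_eq_mul_right (Nat.factorial_pos m)
    rw [h]
    ring
  rw [show m + 2 - 1 = m + 1 by omega, ← h4]
  exact Subgroup.index_dvd_card _

/-- the order of the stabiliser of a point -/
theorem card_stabilizer_mul [IsPretransitive G Ω] (ω : Ω) :
    Nat.card (stabilizer G ω) * Fintype.card Ω = Nat.card G := by
  rw [← Nat.card_eq_fintype_card, ← index_stabilizer_of_transitive G ω]
  exact Subgroup.card_mul_index _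

/-- the elements other than the identity of a group of prime order have the same fixed points as a generator -/
theorem fixedBy_of_mem_zpowers {p : ℕ} (hp : p.Prime) {x : G} (hx : orderOf x = p) {g : G}
    (hg : g ∈ Subgroup.zpowers x) (hne : g ≠ 1) : fixedBy Ω g = fixedBy Ω x := by
  have hle : Subgroup.zpowers g ≤ Subgroup.zpowers x := by
    rw [Subgroup.zpowers_le]
    exact hg
  have hcard : Nat.card (Subgroup.zpowers x) = p := by rw [Nat.card_zpowers, hx]
  have hdvd : Nat.card (Subgroup.zpowers g) ∣ p := by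
    rw [← hcard]
    exact Subgroup.card_dvd_of_le hle
  have hg1 : Nat.card (Subgroup.zpowers g) ≠ 1 := by
    rw [Nat.card_zpowers]
    intro h
    exact hne (orderOf_eq_one_iff.1 h)
  have heq : Subgroup.zpowers g = Subgroup.zpowers x := by
    apply Subgroup.eq_of_le_of_card_ge hle
    rw [hcard]
    rcases (Nat.dvd_prime hp).1 hdvd with h | h
    · exact absurd h hg1
    · rw [h]
  have hx' : x ∈ Subgroup.zpowers g := by rw [heq]; exact Subgroup.mem_zpowers x
  obtain ⟨i, hi⟩ := Subgroup.mem_zpowers_iff.1 hx'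
  obtain ⟨j, hj⟩ := Subgroup.mem_zpowers_iff.1 hg
  apply Set.Subset.antisymm
  · rw [← hi]
    exact fixedBy_subset_fixedBy_zpow Ω g i
  · rw [← hj]
    exact fixedBy_subset_fixedBy_zpow Ω x j

theorem fixN_of_mem_zpowers {p : ℕ} (hp : p.Prime) {x : G} (hx : orderOf x = p) {g : G}
    (hg : g ∈ Subgroup.zpowers x) (hne : g ≠ 1) : fixN Ω g = fixN Ω x := by
  rw [fixN, fixN, fixedBy_of_mem_zpowers hp hx hg hne]

/-- an element of order three without fixed points that normalises a group of order 13: the number of the fixed points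
of the latter is divisible by three -/
theorem three_dvd_fixN (x y : G) (hx : orderOf x = 13) (hy3 : y ^ 3 = 1) (k : ℕ) (hk : ¬ 13 ∣ k)
    (hyx : y * x * y⁻¹ = x ^ k) (hfy : fixN Ω y = 0) : 3 ∣ fixN Ω x := by
  classical
  have h13 : Nat.Prime 13 := by norm_num
  have hxk : x ^ k ≠ 1 := by
    intro h
    apply hk
    rw [← hx]
    exact orderOf_dvd_of_pow_eq_one h
  have hFk : fixedBy Ω (x ^ k) = fixedBy Ω x :=
    fixedBy_of_mem_zpowers h13 hx (Subgroup.pow_mem _ (Subgroup.mem_zpowers x) k) hxk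
  have hyx' : x ^ k * y = y * x := by rw [← hyx, inv_mul_cancel_right]
  have hinv : ∀ ω ∈ fixedBy Ω x, y • ω ∈ fixedBy Ω x := by
    intro ω hω
    rw [← hFk, mem_fixedBy, ← mul_smul, hyx', mul_smul, hω]
  have hempty : fixedBy Ω y = ∅ := by
    rw [fixN, Set.ncard_eq_zero (Set.toFinite _)] at hfy
    exact hfy
  let f : Function.End ↥(fixedBy Ω x) := fun ω => ⟨y • ω.1, hinv ω.1 ω.2⟩
  have hf : f ^ 3 ^ 1 = 1 := by
    rw [pow_one]
    funext ω
    apply Subtype.ext
    show y • (y • (y • ω.1)) = ω.1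
    rw [← mul_smul, ← mul_smul, ← pow_two, ← pow_succ, hy3, one_smul]
  have : Fact (Nat.Prime 3) := ⟨by norm_num⟩
  have hmod := Equiv.Perm.card_fixedPoints_modEq (p := 3) (n := 1) hf
  have h0 : Fintype.card ↥(Function.fixedPoints f) = 0 := by
    rw [Fintype.card_eq_zero_iff]
    constructor
    rintro ⟨ω, hω⟩
    have h1 : y • ω.1 = ω.1 := congrArg Subtype.val hω
    have : ω.1 ∈ fixedBy Ω y := h1
    rw [hempty] at this
    exact this
  rw [h0] at hmod
  have hcard : Fintype.card ↥(fixedBy Ω x) = fixN Ω x := by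
    rw [fixN, ← Nat.card_eq_fintype_card, Nat.card_coe_set_eq]
  rw [← hcard]
  exact (Nat.modEq_zero_iff_dvd).1 hmod

theorem ne_one_of_conj {P : Subgroup G} {m : ℕ} (hP : Nat.card P = m) (hm : 1 < m) {z : G}
    (h : ∀ g ∈ P, g ≠ 1 → ∃ c : G, c * z * c⁻¹ = g) : z ≠ 1 := by
  intro hz
  have hbot : P = ⊥ := by
    rw [Subgroup.eq_bot_iff_forall]
    intro g hg
    by_contra hne
    obtain ⟨c, hc⟩ := h g hg hne
    rw [hz, mul_one, mul_inv_cancel] at hc
    exact hne hc.symm
  rw [hbot, Subgroup.card_bot] at hP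
  omega

/-- a subgroup of order 25 fixes no point when 25 does not divide the order of the stabilisers -/
theorem exists_moved [IsPretransitive G Ω] (hcard : Nat.card G = 17971200) (P5 : Subgroup G) (hP5 : Nat.card P5 = 25)
    (hn : Fintype.card Ω = 40 ∨ Fintype.card Ω = 65) (ω : Ω) : ∃ g ∈ P5, g • ω ≠ ω := by
  by_contra hc
  push Not at hc
  have hle : P5 ≤ stabilizer G ω := fun g hg => hc g hg
  have hdvd := Subgroup.card_dvd_of_le hle
  rw [hP5] at hdvd
  have hmul := card_stabilizer_mul (G := G) ω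
  rw [hcard] at hmul
  rcases hn with h | h <;> rw [h] at hmul <;> omega

/-- **A group with the local structure of the Tits group has no faithful doubly transitive action on three or more
points.** -/
theorem no_two_transitive [FaithfulSMul G Ω] (hcard : Nat.card G = 17971200)
    (P3 : Subgroup G) (hP3 : Nat.card P3 = 27) (y0 : G) (h3 : ∀ g ∈ P3, g ≠ 1 → ∃ c : G, c * y0 * c⁻¹ = g)
    (P5 : Subgroup G) (hP5 : Nat.card P5 = 25) (x5 : G) (h5 : ∀ g ∈ P5, g ≠ 1 → ∃ c : G, c * x5 * c⁻¹ = g)
    (x y : G) (hx : orderOf x = 13) (hy : ∃ c : G, c * y0 * c⁻¹ = y) (hy3 : y ^ 3 = 1)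
    (k : ℕ) (hk : ¬ 13 ∣ k) (hyx : y * x * y⁻¹ = x ^ k)
    (hΩ : 3 ≤ Fintype.card Ω) : ¬ IsMultiplyPretransitive G Ω 2 := by
  classical
  intro h2
  have htr : IsPretransitive G Ω := isPretransitive_of_is_two_pretransitive
  have hA := mul_pred_dvd_card h2 hΩ
  have hB := card_dvd_factorial (G := G) (Ω := Ω)
  rw [hcard] at hA hB
  have hne3 : y0 ≠ 1 := ne_one_of_conj hP3 (by norm_num) h3
  have hne5 : x5 ≠ 1 := ne_one_of_conj hP5 (by norm_num) h5
  have hf3 : fixN Ω y0 < Fintype.card Ω :=
    lt_of_le_of_ne (fixN_le Ω y0) (fun h => hne3 (eq_one_of_fixN_eq Ω h))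
  have hf5 : fixN Ω x5 < Fintype.card Ω :=
    lt_of_le_of_ne (fixN_le Ω x5) (fun h => hne5 (eq_one_of_fixN_eq Ω h))
  have e3 : sumFix Ω P3 = Fintype.card Ω + 26 * fixN Ω y0 := by
    have := sumFix_eq Ω P3 (fixN Ω y0) (fun g hg hne => by
      obtain ⟨c, rfl⟩ := h3 g hg hne
      exact fixN_conj Ω c y0)
    rw [hP3] at this
    exact this
  have d3 : 27 ∣ Fintype.card Ω + 26 * fixN Ω y0 := by
    rw [← e3, ← hP3]
    exact card_dvd_sumFix Ω P3
  have e5 : sumFix Ω P5 = Fintype.card Ω + 24 * fixN Ω x5 := by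
    have := sumFix_eq Ω P5 (fixN Ω x5) (fun g hg hne => by
      obtain ⟨c, rfl⟩ := h5 g hg hne
      exact fixN_conj Ω c x5)
    rw [hP5] at this
    exact this
  have d5 : 25 ∣ Fintype.card Ω + 24 * fixN Ω x5 := by
    rw [← e5, ← hP5]
    exact card_dvd_sumFix Ω P5
  have l5 : Fintype.card Ω = 40 ∨ Fintype.card Ω = 65 → Fintype.card Ω + 24 * fixN Ω x5 ≤ 5 * Fintype.card Ω := by
    intro hn
    rw [← e5]
    exact sumFix_le Ω P5 5 (by norm_num) (by rw [hP5]; norm_num) (exists_moved hcard P5 hP5 hn)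
  rcases degree_cases _ hΩ hA hB with h | h | h | h | h | h
  · rw [h] at d5 hf5
    omega
  · rw [h] at d3 hf3
    omega
  · rw [h] at d3 hf3
    omega
  · -- degree 27
    rw [h] at d3 hf3
    have hf0 : fixN Ω y0 = 0 := by omega
    have hfy : fixN Ω y = 0 := by
      obtain ⟨c, rfl⟩ := hy
      rw [fixN_conj, hf0]
    have hd := three_dvd_fixN (Ω := Ω) x y hx hy3 k hk hyx hfy
    have h13 : Nat.Prime 13 := by norm_num
    have hx1 : x ≠ 1 := by
      intro h1
      rw [h1, orderOf_one] at hx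
      norm_num at hx
    have hfx : fixN Ω x < Fintype.card Ω :=
      lt_of_le_of_ne (fixN_le Ω x) (fun h => hx1 (eq_one_of_fixN_eq Ω h))
    have e13 := sumFix_eq Ω (Subgroup.zpowers x) (fixN Ω x) (fun g hg hne => fixN_of_mem_zpowers h13 hx hg hne)
    have d13 := card_dvd_sumFix Ω (Subgroup.zpowers x)
    rw [e13, Nat.card_zpowers, hx, h] at d13
    rw [h] at hfx
    omega
  · have := l5 (Or.inl h)
    rw [h] at d5 hf5 this
    omega
  · have := l5 (Or.inr h)
    rw [h] at d5 hf5 this
    omega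

/-- an element conjugate to `y0` has order dividing 3, `y0` being conjugate to all the elements other than the identity of a
subgroup of order 27 -/
theorem pow_three_eq_one_of_conj {P3 : Subgroup G} (hP3 : Nat.card P3 = 27) {y0 : G}
    (h3 : ∀ g ∈ P3, g ≠ 1 → ∃ c : G, c * y0 * c⁻¹ = g) {y : G} (hy : ∃ c : G, c * y0 * c⁻¹ = y) : y ^ 3 = 1 := by
  have : Finite P3 := Nat.finite_of_card_ne_zero (by omega)
  haveI : Fact (Nat.Prime 3) := ⟨by norm_num⟩
  obtain ⟨g, hg⟩ := exists_prime_orderOf_dvd_card' (G := P3) 3 (by rw [hP3]; norm_num)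
  have hg1 : (g : G) ≠ 1 := by
    intro h
    have : g = 1 := Subtype.ext h
    rw [this, orderOf_one] at hg
    norm_num at hg
  have hg3 : (g : G) ^ 3 = 1 := by
    have := pow_orderOf_eq_one g
    rw [hg] at this
    exact_mod_cast congrArg Subtype.val this
  obtain ⟨c, hc⟩ := h3 g g.2 hg1
  obtain ⟨d, hd⟩ := hy
  have hy0 : y0 ^ 3 = 1 := by
    have : (c * y0 * c⁻¹) ^ 3 = 1 := by rw [hc]; exact hg3
    rw [conj_pow] at this
    have h' : y0 ^ 3 = c⁻¹ * (c * y0 ^ 3 * c⁻¹) * c := by group
    rw [h', this]; group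
  rw [← hd, conj_pow, hy0]; group

/-- the same for a group isomorphic to `G` -/
theorem no_two_transitive_of_equiv {G' : Type*} [Group G'] (e : G ≃* G') (hcard : Nat.card G = 17971200)
    (P3 : Subgroup G) (hP3 : Nat.card P3 = 27) (y0 : G) (h3 : ∀ g ∈ P3, g ≠ 1 → ∃ c : G, c * y0 * c⁻¹ = g)
    (P5 : Subgroup G) (hP5 : Nat.card P5 = 25) (x5 : G) (h5 : ∀ g ∈ P5, g ≠ 1 → ∃ c : G, c * x5 * c⁻¹ = g)
    (x y : G) (hx : orderOf x = 13) (hy : ∃ c : G, c * y0 * c⁻¹ = y)
    (k : ℕ) (hk : ¬ 13 ∣ k) (hyx : y * x * y⁻¹ = x ^ k)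
    {Ω' : Type*} [Fintype Ω'] [MulAction G' Ω'] [FaithfulSMul G' Ω'] (hΩ : 3 ≤ Fintype.card Ω') :
    ¬ IsMultiplyPretransitive G' Ω' 2 := by
  intro h2
  let _ : MulAction G Ω' := MulAction.compHom Ω' e.toMonoidHom
  have hsmul : ∀ (g : G) (ω : Ω'), g • ω = e g • ω := fun _ _ => rfl
  have _ : FaithfulSMul G Ω' := ⟨fun {a b} h => e.injective (FaithfulSMul.eq_of_smul_eq_smul (α := Ω') fun ω => by
    rw [← hsmul, ← hsmul, h])⟩
  have h2' : IsMultiplyPretransitive G Ω' 2 := by
    rw [is_two_pretransitive_iff]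
    intro a b c d hab hcd
    obtain ⟨g, hg1, hg2⟩ := (is_two_pretransitive_iff.1 h2) hab hcd
    refine ⟨e.symm g, ?_, ?_⟩
    · rw [hsmul, MulEquiv.apply_symm_apply, hg1]
    · rw [hsmul, MulEquiv.apply_symm_apply, hg2]
  exact no_two_transitive hcard P3 hP3 y0 h3 P5 hP5 x5 h5 x y hx hy (pow_three_eq_one_of_conj hP3 h3 hy) k hk hyx hΩ h2'

end main

end Cfsg.Agent.Lib.Lead.TitsTT
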